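import Mathlib
import Cfsg.Agent.Lib.ZC.Main
import Cfsg.Agent.Lib.PD.Tools

/-! Groups of 2-rank at least three whose involution centralizers have normal 2-complements. -/

set_option autoImplicit false
set_option linter.unusedSectionVars false

namespace CfsgLib.NC2

open Cfsg Subgroup CfsgLib.BG CfsgLib.Signal CfsgLib.ZC

variable {G : Type*} [Group G] [Finite G]

/-- `⟨z, v⟩` is a normal non-central four-subgroup of `S`, `z` central -/
structure NC (S : Subgroup G) (z v : G) : Prop where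
  pg : IsPGroup 2 S
  z2 : orderOf z = 2
  zS : z ∈ S
  zc : S ≤ 𝒞[z]
  vS : v ∈ S
  v2 : orderOf v = 2
  ne : v ≠ z
  cjv : ∀ s ∈ S, s * v * s⁻¹ = v ∨ s * v * s⁻¹ = z * v
  nc : ∃ s ∈ S, s * v * s⁻¹ = z * v

namespace NC

variable {S : Subgroup G} {z v : G} (h : NC S z v)
include h

theorem zz : z * z = 1 := StrEmb.mul_self_of_orderOf h.z2

theorem comm {s : G} (hs : s ∈ S) : s * z = z * s := mem_cent1.mp (h.zc hs)

theorem zv : z ∈ 𝒞[v] := cent1C.mp (h.zc h.vS)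

theorem mul_mem_cent {x y : G} (hx : x ∈ S) (hy : y ∈ S)
    (h1 : x ∉ 𝒞[v]) (h2 : y ∉ 𝒞[v]) : x * y ∈ 𝒞[v] := by
  have e1 := (h.cjv x hx).resolve_left fun e => h1 (mem_cent1.mpr (mul_inv_eq_iff_eq_mul.mp e))
  have e2 := (h.cjv y hy).resolve_left fun e => h2 (mem_cent1.mpr (mul_inv_eq_iff_eq_mul.mp e))
  refine mem_cent1.mpr (mul_inv_eq_iff_eq_mul.mp ?_)
  calc x * y * v * (x * y)⁻¹ = x * (y * v * y⁻¹) * x⁻¹ := by group
    _ = (x * z) * v * x⁻¹ := by rw [e2]; group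
    _ = z * (x * v * x⁻¹) := by rw [h.comm hx]; group
    _ = v := by rw [e1, ← mul_assoc, h.zz, one_mul]

theorem sq_mem_cent {x : G} (hx : x ∈ S) : x * x ∈ 𝒞[v] := by
  by_cases h1 : x ∈ 𝒞[v]
  · exact mul_mem h1 h1
  · exact h.mul_mem_cent hx hx h1 h1

theorem zv_ne : z * v ≠ v := fun e => StrEmb.ne_one_of_orderOf h.z2 (mul_eq_right.mp e)

theorem relIndex_cent : (𝒞[v]).relIndex S = 2 := by
  obtain ⟨s, hs, e⟩ := h.nc
  have h1 : s ∉ 𝒞[v] := fun h1 => h.zv_ne (by rw [← e, mem_cent1.mp h1, mul_inv_cancel_right])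
  rw [relIndex, index_eq_two_iff]
  refine ⟨⟨s, hs⟩, fun b => ?_⟩
  by_cases hb : (b : G) ∈ 𝒞[v]
  · exact Or.inr ⟨hb, fun h2 => h1 ((mul_mem_cancel_left hb).mp h2)⟩
  · exact Or.inl ⟨h.mul_mem_cent b.2 hs hb h1, hb⟩

theorem e2 : E2 2 (zpowers z ⊔ zpowers v) := e2_four h.z2 h.v2 h.zv h.ne.symm

theorem V_le : zpowers z ⊔ zpowers v ≤ S := sup_le (zpowers_le.mpr h.zS) (zpowers_le.mpr h.vS)

theorem V_le_cent : zpowers z ⊔ zpowers v ≤ 𝒞[v] := sup_le (zpowers_le.mpr h.zv) (zpowers_le_cent1 v)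

theorem norm_V : S ≤ 𝒩(zpowers z ⊔ zpowers v) := le_norm_of_cj_le fun s hs => by
  rw [cj_sup, cj_zpowers, cj_zpowers, h.comm hs, mul_inv_cancel_right]
  refine sup_le le_sup_left (zpowers_le.mpr ?_)
  rcases h.cjv s hs with e | e <;> rw [e, mem_four h.z2 h.v2 h.zv] <;> simp

theorem linked {A : Subgroup G} (hA : E3 2 A) (hAS : A ≤ S) : Linked 2 (zpowers z ⊔ zpowers v) A := by
  have hp := Nat.prime_two
  have hF : E2 2 (A ⊓ 𝒞[v]) := by
    refine ⟨abelemS inf_le_left hA.abelem, ?_⟩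
    have h1 := Lagrange (inf_le_left : A ⊓ 𝒞[v] ≤ A)
    have h2 : (𝒞[v]).relIndex A ≤ 2 :=
      h.relIndex_cent ▸ relIndex_le_of_le_right hAS (by rw [h.relIndex_cent]; omega)
    rw [inf_relIndex_left] at h1
    have h3 := hA.card
    by_contra h4
    have := Nat.mul_le_mul (not_lt.mp h4) h2
    omega
  refine (Adj.symm ⟨hF, h.e2, ?_⟩).linked.trans (adj_of_le hF (hA.e2 hp) inf_le_left).linked
  rw [centY, cent_zpowers, cent_zpowers]
  exact le_inf (inf_le_left.trans (hAS.trans h.zc)) inf_le_right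

/-- a self-centralizing four-group outside the centralizer of `v` -/
theorem small {y : G} (hg : y ∈ S) (hy2 : orderOf y = 2) (h1 : y ∉ 𝒞[v])
    (hD0 : ∀ d ∈ S ⊓ 𝒞[v] ⊓ 𝒞[y], d = 1 ∨ d = z) : S ⊓ 𝒞[v] ≤ zpowers z ⊔ zpowers v := by
  have hp := Nat.prime_two
  have hyy : y * y = 1 := StrEmb.mul_self_of_orderOf hy2
  have hzy : z ∈ 𝒞[y] := cent1C.mp (h.zc hg)
  have hyv : y * v * y⁻¹ = z * v :=
    (h.cjv y hg).resolve_left fun e => h1 (mem_cent1.mpr (mul_inv_eq_iff_eq_mul.mp e))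
  have hvy : v * y * v⁻¹ = z * y := by
    have e1 : y * v = z * v * y := mul_inv_eq_iff_eq_mul.mp hyv
    rw [mul_inv_eq_iff_eq_mul, mul_assoc, e1, ← mul_assoc z, ← mul_assoc z, h.zz, one_mul]
  have hD : S ⊓ 𝒞[y] ≤ zpowers z ⊔ zpowers y := by
    intro s hs
    rw [mem_four h.z2 hy2 hzy]
    by_cases hsv : s ∈ 𝒞[v]
    · rcases hD0 s ⟨⟨hs.1, hsv⟩, hs.2⟩ with e | e
      · exact Or.inl e
      · exact Or.inr (Or.inl e)
    · rcases hD0 (s * y) ⟨⟨mul_mem hs.1 hg, h.mul_mem_cent hs.1 hg hsv h1⟩, mul_mem hs.2 (cent1id y)⟩ with e | e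
      · exact Or.inr (Or.inr (Or.inl (by rw [← mul_one s, ← hyy, ← mul_assoc, e, one_mul])))
      · exact Or.inr (Or.inr (Or.inr (by rw [← mul_one s, ← hyy, ← mul_assoc, e])))
  have hVS := h.V_le
  have hVv := h.V_le_cent
  have hSV := h.norm_V
  have hV2 := h.e2
  set V := zpowers z ⊔ zpowers v with hV
  have hmem : ∀ x ∈ V ⊔ zpowers y, x ∈ V ∨ ∃ w ∈ V, x = w * y := fun x hx => by
    obtain ⟨a, ha, b, hb, rfl⟩ := (mem_sup_norm_l (zpowers_le.mpr (hSV hg))).mp hx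
    rcases (Classif.mem_zpowers_of_sq_eq_one (sq_one hy2)).mp hb with rfl | rfl
    · exact Or.inl (by simpa using ha)
    · exact Or.inr ⟨a, ha, rfl⟩
  have hcj : ∀ s ∈ S, s * y * s⁻¹ ∈ V ⊔ zpowers y → s * y * s⁻¹ = y ∨ s * y * s⁻¹ = z * y := by
    intro s hs h4
    rcases hmem _ h4 with h5 | ⟨w, hw, e⟩
    · refine absurd (hVv ?_) h1
      simpa [mul_assoc] using conj_mem_of_mem_norm (hSV (inv_mem hs)) h5
    · have h6 : w * y * (w * y) = 1 := e ▸ StrEmb.mul_self_of_orderOf (ord_conj hy2 s)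
      have hww : w * w = 1 := by
        rw [← sq]; exact hV2.abelem.2 w hw
      have h7 : w ∈ 𝒞[y] := by
        refine mem_cent1.mpr ?_
        calc w * y = (w * y)⁻¹ := (inv_eq_of_mul_eq_one_right h6).symm
          _ = y * w := by
            rw [mul_inv_rev, inv_eq_of_mul_eq_one_right hyy, inv_eq_of_mul_eq_one_right hww]
      rcases hD0 w ⟨⟨hVS hw, hVv hw⟩, h7⟩ with rfl | rfl
      · exact Or.inl (by simpa using e)
      · exact Or.inr e
  have hDY : zpowers z ⊔ zpowers y ≤ V ⊔ zpowers y := sup_le_sup_right le_sup_left _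
  have hY : V ⊔ zpowers y = S := by
    refine nilpotent_sub_norm (pgroup_nil hp h.pg) (sup_le hVS (zpowers_le.mpr hg)) fun s hs => ?_
    rcases hcj s hs.1 (conj_mem_of_mem_norm hs.2 (mem_sup_right (mem_zpowers y))) with e | e
    · exact hDY (hD ⟨hs.1, mem_cent1.mpr (mul_inv_eq_iff_eq_mul.mp e)⟩)
    · have h4 : v⁻¹ * s ∈ V ⊔ zpowers y := by
        refine hDY (hD ⟨mul_mem (S.inv_mem h.vS) hs.1,
          mem_cent1.mpr (mul_inv_eq_iff_eq_mul.mp ?_)⟩)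
        rw [show v⁻¹ * s * y * (v⁻¹ * s)⁻¹ = v⁻¹ * (s * y * s⁻¹) * v by group, e, ← hvy]
        group
      exact (mul_mem_cancel_left (inv_mem (mem_sup_left (mem_sup_right (mem_zpowers v))))).mp h4
  intro s hs
  rcases hmem s (hY ▸ hs.1) with h4 | ⟨w, hw, rfl⟩
  · exact h4
  · exact absurd ((mul_mem_cancel_left (hVv hw)).mp hs.2) h1

theorem cent_V : S ⊓ 𝒞[v] ≤ 𝒞(zpowers z ⊔ zpowers v) := by
  rw [centY, cent_zpowers, cent_zpowers]
  exact inf_le_inf_right _ h.zc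

/-- in rank at least three the four-group is not self-centralizing -/
theorem exists_out {A : Subgroup G} (hA : E3 2 A) (hAS : A ≤ S) :
    ∃ u ∈ S ⊓ 𝒞[v], orderOf u = 2 ∧ u ∉ zpowers z ⊔ zpowers v := by
  have hp := Nat.prime_two
  by_contra hc
  push Not at hc
  have h1 : A ⊓ 𝒞[v] ≤ zpowers z ⊔ zpowers v := fun a ha => by
    by_cases ha1 : a = 1
    · exact ha1 ▸ one_mem _
    · exact hc a ⟨hAS ha.1, ha.2⟩ (abelem_order_p hp hA.abelem ha.1 ha1)
  have h4 : Nat.card ↥(zpowers z ⊔ zpowers v) ≤ 4 := by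
    have : ((zpowers z ⊔ zpowers v : Subgroup G) : Set G) ⊆ {1, z, v, z * v} := fun g hg =>
      (mem_four h.z2 h.v2 h.zv).mp hg
    exact (Set.ncard_le_ncard this).trans ((Set.ncard_insert_le _ _).trans (Nat.succ_le_succ
      ((Set.ncard_insert_le _ _).trans (Nat.succ_le_succ
        ((Set.ncard_insert_le _ _).trans (by simp))))))
  have h2 := Lagrange (inf_le_left : A ⊓ 𝒞[v] ≤ A)
  have h3 : (𝒞[v]).relIndex A ≤ 2 :=
    h.relIndex_cent ▸ relIndex_le_of_le_right hAS (by rw [h.relIndex_cent]; omega)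
  rw [inf_relIndex_left] at h2
  have h5 := hA.cube_le hp
  have h6 : Nat.card ↥(zpowers z ⊔ zpowers v) ≤ Nat.card ↥(A ⊓ 𝒞[v]) := by
    by_contra h7
    have := Nat.mul_le_mul (show Nat.card ↥(A ⊓ 𝒞[v]) ≤ 3 by omega) h3
    omega
  have e := eq_of_le_of_card_ge h1 h6
  have hvA : v ∈ A := (e.ge (mem_sup_right (mem_zpowers v))).1
  have h7 : A ≤ zpowers z ⊔ zpowers v := fun a ha =>
    h1 ⟨ha, ((abelem_cents hA.abelem).trans (cent_le_cent1 hvA)) ha⟩
  have := Subgroup.card_le_of_le h7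
  omega

/-- every involution of `C_S(v)` lies, together with `z`, in an elementary subgroup of rank three -/
theorem exists_e3 {A : Subgroup G} (hA : E3 2 A) (hAS : A ≤ S) {t : G} (ht : t ∈ S ⊓ 𝒞[v])
    (h2 : orderOf t = 2) : ∃ B, E3 2 B ∧ z ∈ B ∧ t ∈ B := by
  obtain ⟨u, hu, hu2, huV⟩ := h.exists_out hA hAS
  have hz : z ∈ zpowers z ⊔ zpowers v := mem_sup_left (mem_zpowers z)
  by_cases htV : t ∈ zpowers z ⊔ zpowers v
  · exact ⟨_, e3_sup h.e2 hu2 (h.cent_V hu) huV, mem_sup_left hz, mem_sup_left htV⟩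
  · exact ⟨_, e3_sup h.e2 h2 (h.cent_V ht) htV, mem_sup_left hz, mem_sup_right (mem_zpowers t)⟩

end NC

variable {S : Sylow 2 G} {z v : G}

theorem NC.linked_two (h : NC (S : Subgroup G) z v) {T A B : Subgroup G} (hT : IsPiSubgroup {2} T)
    (hA : E3 2 A) (hB : E3 2 B) (hAT : A ≤ T) (hBT : B ≤ T) : Linked 2 A B := by
  obtain ⟨g, -, hg⟩ := Sylow_Jsub Nat.prime_two (isSylowOf_top Nat.prime_two S) le_top hT
  have h1 := ((h.linked (hA.cj g) ((cj_mono g hAT).trans hg)).symm.trans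
    (h.linked (hB.cj g) ((cj_mono g hBT).trans hg))).cj g⁻¹
  simpa only [cj_inv_cj] using h1

/-- every involution commuting with `z` lies, together with `z`, in an elementary subgroup of rank three -/
theorem NC.exists_e3' (h : NC (S : Subgroup G) z v) (hi : ∀ M : Subgroup G, M.index ≠ 2)
    {A : Subgroup G} (hA : E3 2 A) (hAS : A ≤ S) {t : G} (ht : t ∈ 𝒞[z]) (h2 : orderOf t = 2) :
    ∃ B, E3 2 B ∧ z ∈ B ∧ t ∈ B := by
  have hp := Nat.prime_two
  have hSz : IsSylowOf 2 (S : Subgroup G) 𝒞[z] := pHall_subl h.zc le_top (isSylowOf_top hp S)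
  -- reduce to the extremal case
  obtain ⟨R0, hR0, htR0⟩ := Sylow_superset hp (H := 𝒞[z] ⊓ 𝒞[t]) (Q := zpowers t)
    (le_inf (zpowers_le.mpr ht) (zpowers_le_cent1 t)) (abelem_pgroup hp (abelem_zpowers (sq_one h2)))
  obtain ⟨c, hc, hcS⟩ := Sylow_Jsub hp hSz ((pHall_sub hR0).trans inf_le_left) (pHall_pgroup hR0)
  have hcz : c * z * c⁻¹ = z := by rw [mem_cent1.mp hc, mul_inv_cancel_right]
  set y := c * t * c⁻¹ with hy
  have hy2 : orderOf y = 2 := ord_conj h2 c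
  have hyS : y ∈ (S : Subgroup G) := hcS (conj_mem_cj.mpr (htR0 (mem_zpowers t)))
  have hR1 : IsSylowOf 2 (cj c R0) (𝒞[z] ⊓ 𝒞[y]) := by
    have := (pHall_cj (g := c)).mpr hR0
    rwa [cj_inf, cj_cent1, cj_cent1, hcz] at this
  have hR : IsSylowOf 2 ((S : Subgroup G) ⊓ 𝒞[y]) (𝒞[z] ⊓ 𝒞[y]) := by
    rw [sub_pHall hR1 (pigroupS inf_le_left (syl_pi S)) (le_inf hcS ((pHall_sub hR1).trans inf_le_right))
      (inf_le_inf_right _ h.zc)]
    exact hR1
  suffices hs : ∃ B, E3 2 B ∧ z ∈ B ∧ y ∈ B by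
    obtain ⟨B, hB, h3, h4⟩ := hs
    refine ⟨_, hB.cj c⁻¹, mem_cj_inv.mpr (by rwa [hcz]), mem_cj_inv.mpr h4⟩
  clear_value y
  by_contra hn
  have hyv : y ∉ 𝒞[v] := fun e => hn (h.exists_e3 hA hAS ⟨hyS, e⟩ hy2)
  have hzy : z ∈ 𝒞[y] := cent1C.mp (h.zc hyS)
  have hne : z ≠ y := fun e => hyv (e ▸ h.zv)
  have hE := e2_four h.z2 hy2 hzy hne
  set R := (S : Subgroup G) ⊓ 𝒞[y] with hRdef
  have hinv : ∀ u ∈ 𝒞[z] ⊓ 𝒞[y], orderOf u = 2 → u = z ∨ u = y ∨ u = z * y := fun u hu hu2 => by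
    by_contra hc
    refine hn ⟨_, e3_sup hE hu2 ?_ fun h3 => hc ?_, mem_sup_left (mem_sup_left (mem_zpowers z)),
      mem_sup_left (mem_sup_right (mem_zpowers y))⟩
    · rwa [centY, cent_zpowers, cent_zpowers]
    · exact ((mem_four h.z2 hy2 hzy).mp h3).resolve_left (StrEmb.ne_one_of_orderOf hu2)
  -- a Sylow subgroup of `C(y)` has rank at least three
  obtain ⟨T, hT, hRT⟩ := Sylow_superset hp (H := 𝒞[y]) (Q := R) inf_le_right (pHall_pgroup hR)
  have hlt : R < T := by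
    refine lt_of_le_of_ne hRT fun e => ?_
    obtain ⟨g, hg⟩ := Transfer.exists_conj_mem_of_no_index_two hi S.not_dvd_index
      (Q := (S : Subgroup G) ⊓ 𝒞[v]) (by rw [inf_relIndex_left]; exact h.relIndex_cent) hy2
    obtain ⟨B, hB, -, hyB⟩ := h.exists_e3 hA hAS hg (ord_conj hy2 g)
    have h3 : y ∈ cj g⁻¹ B := mem_cj_inv.mpr hyB
    have hB' := hB.cj g⁻¹
    obtain ⟨d, hd, h4⟩ := Sylow_Jsub hp hT ((abelem_cents hB'.abelem).trans (cent_le_cent1 h3))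
      (abelem_pgroup hp hB'.abelem)
    have hB2 := hB'.cj d
    have h5 : cj d (cj g⁻¹ B) ≤ zpowers z ⊔ zpowers y := fun a ha => by
      rw [mem_four h.z2 hy2 hzy]
      by_cases ha1 : a = 1
      · exact Or.inl ha1
      · exact Or.inr (hinv a (pHall_sub hR (e ▸ h4 ha)) (abelem_order_p hp hB2.abelem ha ha1))
    exact hn ⟨_, hB2.mono h5 hE.abelem, mem_sup_left (mem_zpowers z), mem_sup_right (mem_zpowers y)⟩
  obtain ⟨x, ⟨hxT, hxN⟩, hxR⟩ := SetLike.exists_of_lt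
    (nilpotent_proper_norm (pgroup_nil hp ((pigroup_singleton hp).mp (pHall_pgroup hT))) hlt)
  have hxy : x ∈ 𝒞[y] := pHall_sub hT hxT
  have hxz : x * z * x⁻¹ = z * y := by
    rcases hinv _ (pHall_sub hR (conj_mem_of_mem_norm hxN ⟨h.zS, hzy⟩)) (ord_conj h.z2 x) with e | e | e
    · refine absurd ?_ hxR
      have h3 : T ⊓ 𝒞[z] = R := sub_pHall hR (pigroupS inf_le_left (pHall_pgroup hT))
        (le_inf hRT (inf_le_left.trans h.zc)) (le_inf inf_le_right (inf_le_left.trans (pHall_sub hT)))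
      exact h3 ▸ ⟨hxT, mem_cent1.mpr (mul_inv_eq_iff_eq_mul.mp e)⟩
    · refine absurd ?_ hne
      rw [mul_inv_eq_iff_eq_mul, ← mem_cent1.mp hxy] at e
      exact mul_left_cancel e
    · exact e
  have hzyv : z * y ∉ 𝒞[v] := fun e => hyv ((mul_mem_cancel_left h.zv).mp e)
  have hD0 : ∀ d ∈ (S : Subgroup G) ⊓ 𝒞[v] ⊓ 𝒞[y], d = 1 ∨ d = z := by
    have h3 : ∀ u ∈ (S : Subgroup G) ⊓ 𝒞[v] ⊓ 𝒞[y], orderOf u = 2 → u = z := fun u hu hu2 => by
      rcases hinv u ⟨h.zc hu.1.1, hu.2⟩ hu2 with e | e | e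
      · exact e
      · exact absurd (e ▸ hu.1.2) hyv
      · exact absurd (e ▸ hu.1.2) hzyv
    intro d hd
    by_cases hd2 : d * d = 1
    · by_cases hd1 : d = 1
      · exact Or.inl hd1
      · exact Or.inr (h3 d hd (StrEmb.orderOf_eq_two hd2 hd1))
    exfalso
    have he : Even (orderOf (d * d)) := by
      obtain ⟨k, hk⟩ := IsPGroup.iff_orderOf.mp S.isPGroup' ⟨d * d, mul_mem hd.1.1 hd.1.1⟩
      rw [← orderOf_coe] at hk
      rcases k with _ | k
      · exact absurd (orderOf_eq_one_iff.mp hk) hd2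
      · exact hk ▸ ⟨2 ^ k, by ring⟩
    obtain ⟨k, hk⟩ := StrEmb.exists_pow_orderOf_two he
    have e := h3 _ (pow_mem (mul_mem hd hd) k) hk
    have h4 : x * d ^ k * x⁻¹ ∈ R := conj_mem_of_mem_norm hxN ⟨pow_mem hd.1.1 k, pow_mem hd.2 k⟩
    have h5 := h.sq_mem_cent h4.1
    apply hzyv
    rw [← hxz, ← e, (Commute.refl d).mul_pow]
    rwa [show x * d ^ k * x⁻¹ * (x * d ^ k * x⁻¹) = x * (d ^ k * d ^ k) * x⁻¹ by group] at h5
  obtain ⟨u, hu, -, huV⟩ := h.exists_out hA hAS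
  exact huV (h.small hyS hy2 hyv hD0 hu)

/-- involution centralizers have normal 2-complements -/
def NP (G : Type*) [Group G] : Prop :=
  ∀ t : G, orderOf t = 2 → ∀ T, IsSylowOf 2 T 𝒞[t] → 𝒞[t] ≤ centralizerPPrimeCore 2 t ⊔ T

theorem NC.out (h : NC (S : Subgroup G) z v) (hc : ZC.Con G) (hP : NP G) (hO : pPrimeCore 2 G = ⊥)
    (hi : ∀ M : Subgroup G, M.index ≠ 2) {A : Subgroup G} (hA : E3 2 A) (hAS : A ≤ S) : Out G := by
  have hp := Nat.prime_two
  have hF := cpc_eqF_two hc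
  have hVx : Vtx 2 (zpowers z ⊔ zpowers v) := (h.linked hA hAS).symm.vtx hp (hA.vtx hp)
  set W := signalizerClosure (zpowers z ⊔ zpowers v) (centralizerPPrimeCore 2) with hW
  have good : ∀ B, E3 2 B → signalizerClosure B (centralizerPPrimeCore 2) = W → ∀ t ∈ B, t ≠ 1 →
      𝒞[t] ≤ 𝒩(W) := fun B hB e t ht h1 => by
    obtain ⟨T, hT, hBT⟩ := Sylow_superset hp ((abelem_cents hB.abelem).trans (cent_le_cent1 ht))
      (abelem_pgroup hp hB.abelem)
    refine (hP t (abelem_order_p hp hB.abelem ht h1) T hT).trans (sup_le ?_ fun x hx => ?_)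
    · exact (e ▸ le_closure' ht h1).trans le_normalizer
    · rw [← e]
      exact hF.mem_norm (hB.vtx hp) (h.linked_two (pHall_pgroup hT) hB (hB.cj x) hBT
        (cj_le_of_mem_norm (le_normalizer hx) hBT))
  have hz1 := StrEmb.ne_one_of_orderOf h.z2
  have hzM : 𝒞[z] ≤ 𝒩(W) := by
    obtain ⟨B, hB, hle⟩ := hVx.ex
    exact good B hB (hF.closure_eq_of_le h.e2 hB hle).symm z (hle (mem_sup_left (mem_zpowers z))) hz1
  have key : ∀ B, E3 2 B → z ∈ B → signalizerClosure B (centralizerPPrimeCore 2) = W := fun B hB hzB => by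
    obtain ⟨c, hc, hcS⟩ := Sylow_Jsub hp (pHall_subl h.zc le_top (isSylowOf_top hp S))
      ((abelem_cents hB.abelem).trans (cent_le_cent1 hzB)) (abelem_pgroup hp hB.abelem)
    have h1 := hF.closure_linked (h.linked (hB.cj c) hcS)
    rw [← hF.cj_closure (hB.vtx hp), ← hW] at h1
    have h2 := congrArg (cj c⁻¹) h1
    rw [cj_inv_cj, cj_eq_of_mem_norm (inv_mem (hzM hc))] at h2
    exact h2.symm
  refine out_of_core hc hO S h.z2 h.zS h.zc (hF.inFam (sftIn G) hVx).p'grp (fun g hg => ?_)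
    fun t htS ht _ => ?_
  · obtain ⟨B, hB, h1, h2⟩ := h.exists_e3' hi hA hAS (h.zc hg) (ord_conj h.z2 g)
    have h3 := key _ (hB.cj g⁻¹) (mem_cj_inv.mpr h2)
    rw [← hF.cj_closure (hB.vtx hp), key B hB h1] at h3
    exact inv_mem_iff.mp (mem_norm_iff.mpr h3)
  · obtain ⟨B, hB, h1, h2⟩ := h.exists_e3' hi hA hAS (h.zc htS) ht
    exact (le_closure' h2 (StrEmb.ne_one_of_orderOf ht)).trans (key B hB h1).le

theorem out_of_rank3 (hc : ZC.Con G) (hP : NP G) (hO : pPrimeCore 2 G = ⊥)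
    (hi : ∀ M : Subgroup G, M.index ≠ 2) (h3 : ¬ PRankLE 2 2 G) : Out G := by
  have hp := Nat.prime_two
  obtain ⟨S⟩ : Nonempty (Sylow 2 G) := inferInstance
  obtain ⟨A, hA, hAS⟩ := exists_e3_le_sylow hp S h3
  rcases PD.exists_four_or_cyclic S.isPGroup' with ⟨V, hV, hV4, hV2⟩ | ⟨x, hx, hxi⟩
  swap
  · exfalso
    have h1 := Lagrange (inf_le_left : A ⊓ zpowers x ≤ A)
    have h2 : (zpowers x).relIndex A ≤ 2 :=
      (relIndex_le_of_le_right hAS (Subgroup.index_ne_zero_of_finite)).trans hxi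
    rw [inf_relIndex_left] at h1
    have h4 := hA.card
    have hF : E2 2 (A ⊓ zpowers x) := by
      refine ⟨abelemS inf_le_left hA.abelem, ?_⟩
      by_contra h5
      have := Nat.mul_le_mul (not_lt.mp h5) h2
      omega
    exact hF.not_cyclic hp (Subgroup.isCyclic_of_le inf_le_right)
  have hE : E2 2 V := ⟨Classif.isElementaryAbelian_two_iff.mpr fun x hx => by rw [sq, hV2 x hx], by omega⟩
  by_cases hVc : (S : Subgroup G) ≤ 𝒞(V)
  · exact out_of_central hc hO S hE hVc hA hAS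
  have hV2' : ∀ x ∈ V, x ≠ 1 → orderOf x = 2 := fun x hx => abelem_order_p hp hE.abelem hx
  obtain ⟨z, hz, hz1⟩ := exists_ne_one_of_ne_bot (meet_center_nil (pgroup_nil hp S.isPGroup') hV
    (ne_bot_of_lt_card one_pos (by omega)))
  have hzc : (S : Subgroup G) ≤ 𝒞[z] := centsC.mp (zpowers_le.mpr hz.2.2) |>.trans (by rw [cent_zpowers])
  obtain ⟨v, hvV, hv1, hvz⟩ := Classif.exists_mem_ne_ne (V := V) (by omega) z
  have hzv : z ∈ 𝒞[v] := cent1C.mp (hzc (hV.1 hvV))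
  have e : zpowers z ⊔ zpowers v = V := eq_of_le_of_card_ge (sup_le (zpowers_le.mpr hz.1) (zpowers_le.mpr hvV))
    (hV4 ▸ (e2_four (hV2' z hz.1 hz1) (hV2' v hvV hv1) hzv hvz.symm).sq_le hp)
  have hcj : ∀ s ∈ (S : Subgroup G), s * v * s⁻¹ = v ∨ s * v * s⁻¹ = z * v := fun s hs => by
    have h5 := conj_mem_of_mem_norm (hV.2 hs) hvV
    rw [← e, mem_four (hV2' z hz.1 hz1) (hV2' v hvV hv1) hzv] at h5
    rcases h5 with h5 | h5 | h5 | h5
    · exact absurd h5 (StrEmb.ne_one_of_orderOf (ord_conj (hV2' v hvV hv1) s))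
    · refine absurd ?_ hvz
      rw [mul_inv_eq_iff_eq_mul, ← mem_cent1.mp (hzc hs)] at h5
      exact mul_left_cancel h5
    · exact Or.inl h5
    · exact Or.inr h5
  refine NC.out ⟨S.isPGroup', hV2' z hz.1 hz1, hz.2.1, hzc, hV.1 hvV, hV2' v hvV hv1, hvz, hcj, ?_⟩
    hc hP hO hi hA hAS
  by_contra hn
  push Not at hn
  apply hVc
  rw [← e, centY, cent_zpowers, cent_zpowers]
  exact le_inf hzc fun s hs =>
    mem_cent1.mpr (mul_inv_eq_iff_eq_mul.mp ((hcj s hs).resolve_right (hn s hs)))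

end CfsgLib.NC2
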